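import Cfsg.Agent.H296.ESixGF
import Cfsg.Agent.H79.DiagAuts

/-!
# S5719, cell `e6_O`: the final normalisation (helper679)

`fin_norm` : an involution `d γ` of `Aut E₆(F)`, `d` diagonal, `γ` the graph automorphism, is conjugate to `d' γ`, `d'` diagonal with
parameters `(1, ε, 1, 1, 1, 1)`, `ε² = 1`. Any field.
-/

set_option autoImplicit false

namespace Cfsg.Agent.H679.IF.E6Fin

open Cfsg.Lie
open Cfsg.Agent.ChevalleyStructure Cfsg.Agent.ChevalleyStructure.Elts Cfsg.Agent.ChevalleyStructure.GraphSymm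
open Cfsg.Agent.BpExc.FamTw.Gr
open Cfsg.Agent.H79.SimpleGen Cfsg.Agent.H79.OutChev Cfsg.Agent.H79.DiagAuts
open Cfsg.Agent.H296.ESixGF (hp6 gr_sq6 rho6 gr_isGr exp6)

universe u

variable {F : Type u} [Field F]

local notation "hE" => (hp6.inList)

/-! ### conjugacy -/

/-- conjugate elements -/
def Rl {G : Type*} [Group G] (a b : G) : Prop := ∃ z : G, a = z⁻¹ * b * z

theorem Rl.trans {G : Type*} [Group G] {a b c : G} (h : Rl a b) (k : Rl b c) : Rl a c := by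
  obtain ⟨z, rfl⟩ := h
  obtain ⟨y, rfl⟩ := k
  exact ⟨y * z, by group⟩

theorem gam_sq : gr (L := F) hE symmE6 * gr hE symmE6 = 1 := gr_sq6

theorem gam_apply (i : Fin chevE6.rank) (t : F) :
    gr (L := F) hE symmE6 (xS hE (chevE6.simple i) t) = xS hE (chevE6.simple (rho6 i)) t ∧
      gr (L := F) hE symmE6 (xS hE (chevE6.neg (chevE6.simple i)) t) = xS hE (chevE6.neg (chevE6.simple (rho6 i))) t := by
  have h := gr_isGr (L := F) i t
  have e : chevE6.graphExp (ringChar F) i (rho6 i) = 1 := exp6 _ _ _ (rho6 i).isLt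
  simp only [e, pow_one] at h
  exact h

theorem rho_rho (i : Fin chevE6.rank) : rho6 (rho6 i) = i := rho6.left_inv i

/-- conjugation by the graph automorphism -/
theorem isD_gam {c : Fin chevE6.rank → Fˣ} {d : MulAut ↥(chevE6.group F)} (hd : IsD hE c d) :
    IsD hE (fun i => c (rho6 i)) (gr hE symmE6 * d * gr hE symmE6) := by
  intro i t
  rw [MulAut.mul_apply, MulAut.mul_apply, MulAut.mul_apply, MulAut.mul_apply, (gam_apply i t).1, (gam_apply i t).2,
    (hd (rho6 i) t).1, (hd (rho6 i) t).2, (gam_apply (rho6 i) _).1, (gam_apply (rho6 i) _).2, rho_rho]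
  exact ⟨rfl, rfl⟩

/-- the parameters of an involution -/
theorem param {c : Fin chevE6.rank → Fˣ} {d : MulAut ↥(chevE6.group F)} (hd : IsD hE c d)
    (hσ : (d * gr hE symmE6) * (d * gr hE symmE6) = 1) (i : Fin chevE6.rank) : c i * c (rho6 i) = 1 := by
  have h1 := hd.mul (isD_gam hd)
  have h2 : d * (gr hE symmE6 * d * gr hE symmE6) = 1 := by
    rw [← hσ]
    group
  rw [h2] at h1
  have h3 := (h1 i 1).1
  rw [MulAut.one_apply, mul_one] at h3
  have h4 := xS_injective hE (simple_lt hE i.isLt) h3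
  apply Units.ext
  exact h4.symm

/-- conjugation by a diagonal automorphism -/
theorem diag_step {c : Fin chevE6.rank → Fˣ} {d : MulAut ↥(chevE6.group F)} (hd : IsD hE c d) (e : Fin chevE6.rank → Fˣ) :
    ∃ d' : MulAut ↥(chevE6.group F), IsD hE (fun i => e i * c i * (e (rho6 i))⁻¹) d' ∧
      Rl (d * gr hE symmE6) (d' * gr hE symmE6) := by
  obtain ⟨δ, hδ, -⟩ := exists_isD (F := F) hE e
  refine ⟨δ * d * (gr hE symmE6 * δ⁻¹ * gr hE symmE6), ?_, δ, ?_⟩
  · exact (hδ.mul hd).mul (isD_gam hδ.inv)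
  · have h := gam_sq (F := F)
    have : δ⁻¹ * (δ * d * (gr hE symmE6 * δ⁻¹ * gr hE symmE6) * gr hE symmE6) * δ =
        d * gr hE symmE6 * δ⁻¹ * (gr hE symmE6 * gr hE symmE6) * δ := by group
    rw [this, h]
    group

/-! ### the elements `n_i(1)²` -/


def E1 : Fin 6 → ℤˣ := ![1, 1, 1, -1, 1, 1]
def E3 : Fin 6 → ℤˣ := ![1, -1, -1, 1, -1, 1]

theorem tab1 : ∀ k : Fin 6, (chevE6.reflectRoot 1 (chevE6.reflectRoot 1 (chevE6.simple k)) = chevE6.simple k ∧
    NSimple.eta chevE6 1 (chevE6.reflectRoot 1 (chevE6.simple k)) * NSimple.eta chevE6 1 (chevE6.simple k) = (E1 k : ℤ)) ∧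
    (chevE6.reflectRoot 1 (chevE6.reflectRoot 1 (chevE6.neg (chevE6.simple k))) = chevE6.neg (chevE6.simple k) ∧
    NSimple.eta chevE6 1 (chevE6.reflectRoot 1 (chevE6.neg (chevE6.simple k))) *
      NSimple.eta chevE6 1 (chevE6.neg (chevE6.simple k)) = (E1 k : ℤ)) := by decide +kernel

theorem tab3 : ∀ k : Fin 6, (chevE6.reflectRoot 3 (chevE6.reflectRoot 3 (chevE6.simple k)) = chevE6.simple k ∧
    NSimple.eta chevE6 3 (chevE6.reflectRoot 3 (chevE6.simple k)) * NSimple.eta chevE6 3 (chevE6.simple k) = (E3 k : ℤ)) ∧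
    (chevE6.reflectRoot 3 (chevE6.reflectRoot 3 (chevE6.neg (chevE6.simple k))) = chevE6.neg (chevE6.simple k) ∧
    NSimple.eta chevE6 3 (chevE6.reflectRoot 3 (chevE6.neg (chevE6.simple k))) *
      NSimple.eta chevE6 3 (chevE6.neg (chevE6.simple k)) = (E3 k : ℤ)) := by decide +kernel

/-- `ℤˣ → Fˣ` -/
def su (F : Type u) [Field F] : ℤˣ →* Fˣ := Units.map ((Int.castRingHom F : ℤ →+* F) : ℤ →* F)

theorem coe_su (z : ℤˣ) : ((su F z : Fˣ) : F) = ((z : ℤ) : F) := rfl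

theorem su_neg_one : su F (-1) = -1 := by
  apply Units.ext
  rw [coe_su]
  simp

theorem su_inv (z : ℤˣ) : (su F z)⁻¹ = su F z := by
  rw [← map_inv, Int.units_inv_eq_self]

/-- conjugation by `n_i(1)²` on one root group -/
theorem conj_nn {i s : ℕ} (hi : i < 6) (hs : s < chevE6.nroots) (hs' : chevE6.reflectRoot i s < chevE6.nroots)
    (h1 : chevE6.reflectRoot i (chevE6.reflectRoot i s) = s) {z : ℤˣ}
    (h2 : NSimple.eta chevE6 i (chevE6.reflectRoot i s) * NSimple.eta chevE6 i s = (z : ℤ)) (t : F) :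
    MulAut.conj (nS hE (chevE6.simple i) 1 * nS hE (chevE6.simple i) (1 : F)) (xS hE s t) =
      xS hE s ((su F z : F) * t) := by
  have h3 := nS_mul_xS (F := F) hE hi hs t
  have h4 := nS_mul_xS (F := F) hE hi hs' (((NSimple.eta chevE6 i s : ℤ) : F) * t)
  rw [h1, ← mul_assoc, ← Int.cast_mul, h2] at h4
  rw [MulAut.conj_apply, mul_assoc (nS hE (chevE6.simple i) (1 : F)), h3, ← mul_assoc, h4, coe_su]
  group

theorem isD_nn {i : ℕ} (hi : i < 6) (E : Fin 6 → ℤˣ)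
    (tab : ∀ k : Fin 6, (chevE6.reflectRoot i (chevE6.reflectRoot i (chevE6.simple k)) = chevE6.simple k ∧
      NSimple.eta chevE6 i (chevE6.reflectRoot i (chevE6.simple k)) * NSimple.eta chevE6 i (chevE6.simple k) = (E k : ℤ)) ∧
      (chevE6.reflectRoot i (chevE6.reflectRoot i (chevE6.neg (chevE6.simple k))) = chevE6.neg (chevE6.simple k) ∧
      NSimple.eta chevE6 i (chevE6.reflectRoot i (chevE6.neg (chevE6.simple k))) *
        NSimple.eta chevE6 i (chevE6.neg (chevE6.simple k)) = (E k : ℤ)))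
    (lt : ∀ k : Fin 6, chevE6.reflectRoot i (chevE6.simple k) < chevE6.nroots ∧
      chevE6.reflectRoot i (chevE6.neg (chevE6.simple k)) < chevE6.nroots) :
    IsD hE (fun k : Fin chevE6.rank => su F (E k))
      (MulAut.conj (nS hE (chevE6.simple i) 1 * nS hE (chevE6.simple i) (1 : F))) := by
  intro k t
  refine ⟨conj_nn hi (simple_lt hE k.isLt) (lt k).1 (tab k).1.1 (tab k).1.2 t, ?_⟩
  rw [su_inv]
  exact conj_nn hi (neg_simple_lt hE k.isLt) (lt k).2 (tab k).2.1 (tab k).2.2 t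

theorem lt1 : ∀ k : Fin 6, chevE6.reflectRoot 1 (chevE6.simple k) < chevE6.nroots ∧
    chevE6.reflectRoot 1 (chevE6.neg (chevE6.simple k)) < chevE6.nroots := by decide +kernel

theorem lt3 : ∀ k : Fin 6, chevE6.reflectRoot 3 (chevE6.simple k) < chevE6.nroots ∧
    chevE6.reflectRoot 3 (chevE6.neg (chevE6.simple k)) < chevE6.nroots := by decide +kernel

theorem neg_neg_simple : ∀ k : Fin 6, chevE6.neg (chevE6.neg (chevE6.simple k)) = chevE6.simple k := by decide +kernel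

theorem nS_inv (r : ℕ) (t : F) : (nS hE r t)⁻¹ = nS hE r (-t) := by
  rw [nS_def, nS_def, mul_inv_rev, mul_inv_rev, xS_inv, xS_inv, mul_assoc]
  congr 3
  rw [inv_neg]

/-- conjugation by `n_i(1)`, `i` fixed by the symmetry and `c_i = -1` -/
theorem refl_step {c : Fin chevE6.rank → Fˣ} {d : MulAut ↥(chevE6.group F)} (hd : IsD hE c d) (i : Fin chevE6.rank)
    (hi : rho6 i = i) (hc : c i = -1) {z : Fin chevE6.rank → Fˣ}
    (hz : IsD hE z (MulAut.conj (nS hE (chevE6.simple i) 1 * nS hE (chevE6.simple i) (1 : F)))) :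
    ∃ d' : MulAut ↥(chevE6.group F), IsD hE (fun k => z k * c k) d' ∧ Rl (d * gr hE symmE6) (d' * gr hE symmE6) := by
  set n := nS hE (chevE6.simple i) (1 : F) with hn
  have h1 : (d * gr hE symmE6 : MulAut ↥(chevE6.group F)) n = n⁻¹ := by
    rw [hn, nS_inv, nS_def, nS_def, MulAut.mul_apply]
    simp only [map_mul, (gam_apply i _).1, (gam_apply i _).2, hi, (hd i _).1, (hd i _).2, hc]
    have e1 : ((-1 : Fˣ) : F) * 1 = -1 := by simp
    have e2 : (((-1 : Fˣ)⁻¹ : Fˣ) : F) * -1⁻¹ = -(-1)⁻¹ := by simp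
    rw [e1, e2]
  refine ⟨MulAut.conj (n * n) * d, hz.mul hd, MulAut.conj n, ?_⟩
  have h2 : (d * gr hE symmE6) * MulAut.conj n = MulAut.conj n⁻¹ * (d * gr hE symmE6) := by
    refine MulEquiv.ext fun g => ?_
    change (d * gr hE symmE6 : MulAut ↥(chevE6.group F)) (n * g * n⁻¹) =
      n⁻¹ * (d * gr hE symmE6 : MulAut ↥(chevE6.group F)) g * n⁻¹⁻¹
    rw [map_mul, map_mul, map_inv, h1]
  rw [mul_assoc (MulAut.conj (n * n)), mul_assoc, mul_assoc, h2, ← mul_assoc, ← mul_assoc, ← mul_assoc, ← map_inv, ← map_mul,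
    ← map_mul]
  have h3 : n⁻¹ * (n * n) * n⁻¹ = 1 := by group
  rw [h3, map_one, one_mul]

/-! ### the normalisation -/

theorem unit_cases {x : Fˣ} (h : x * x = 1) : x = 1 ∨ x = -1 := by
  have h1 : (x : F) * x = 1 := by rw [← Units.val_mul, h, Units.val_one]
  rcases mul_self_eq_one_iff.1 h1 with h2 | h2
  · exact Or.inl (Units.ext h2)
  · exact Or.inr (Units.ext h2)

theorem isD_congr {c c' : Fin 6 → Fˣ} {d : MulAut ↥(chevE6.group F)} (hd : IsD hE c d) (h : ∀ i, c i = c' i) :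
    IsD hE c' d := by
  have : c = c' := funext h
  rwa [← this]

/-- the diagonal normalisation -/
theorem norm_diag {c : Fin 6 → Fˣ} {d : MulAut ↥(chevE6.group F)} (hd : IsD hE c d)
    (h0 : c 0 * c 5 = 1) (h2 : c 2 * c 4 = 1) :
    ∃ d' : MulAut ↥(chevE6.group F), IsD hE (![1, c 1, 1, c 3, 1, 1] : Fin 6 → Fˣ) d' ∧
      Rl (d * gr hE symmE6) (d' * gr hE symmE6) := by
  obtain ⟨d', h3, h4⟩ := diag_step hd (![(c 0)⁻¹, 1, (c 2)⁻¹, 1, 1, 1] : Fin 6 → Fˣ)
  refine ⟨d', isD_congr h3 ?_, h4⟩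
  intro i
  fin_cases i
  · change (c 0)⁻¹ * c 0 * (1 : Fˣ)⁻¹ = 1
    simp
  · change 1 * c 1 * (1 : Fˣ)⁻¹ = c 1
    simp
  · change (c 2)⁻¹ * c 2 * (1 : Fˣ)⁻¹ = 1
    simp
  · change 1 * c 3 * (1 : Fˣ)⁻¹ = c 3
    simp
  · change 1 * c 4 * ((c 2)⁻¹)⁻¹ = 1
    rw [inv_inv, one_mul, mul_comm, h2]
  · change 1 * c 5 * ((c 0)⁻¹)⁻¹ = 1
    rw [inv_inv, one_mul, mul_comm, h0]

theorem sq_of_Rl {a b : MulAut ↥(chevE6.group F)} (h : Rl a b) (ha : a * a = 1) : b * b = 1 := by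
  obtain ⟨z, rfl⟩ := h
  have h1 : z⁻¹ * b * z * (z⁻¹ * b * z) = z⁻¹ * (b * b) * z := by group
  rw [h1] at ha
  have h2 : b * b = z * (z⁻¹ * (b * b) * z) * z⁻¹ := by group
  rw [h2, ha]
  group

/-- **The final normalisation**, vector form. -/
theorem fin_norm' {c : Fin 6 → Fˣ} {d : MulAut ↥(chevE6.group F)} (hd : IsD hE c d)
    (hσ : (d * gr hp6.inList symmE6) * (d * gr hp6.inList symmE6) = 1) :
    ∃ (d' : MulAut ↥(chevE6.group F)) (ε : Fˣ), ε * ε = 1 ∧ IsD hE (![1, ε, 1, 1, 1, 1] : Fin 6 → Fˣ) d' ∧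
      Rl (d * gr hp6.inList symmE6) (d' * gr hp6.inList symmE6) := by
  have hn1 := isD_nn (F := F) (i := 1) (by norm_num) E1 tab1 lt1
  have hn3 := isD_nn (F := F) (i := 3) (by norm_num) E3 tab3 lt3
  have hcc := param hd hσ
  have h11 : c 1 * c 1 = 1 := hcc (1 : Fin 6)
  have h33 : c 3 * c 3 = 1 := hcc (3 : Fin 6)
  obtain ⟨d1, hd1, r1⟩ := norm_diag hd (hcc (0 : Fin 6)) (hcc (2 : Fin 6))
  -- the case `(-1, -1)`
  have last : ∀ {d2 : MulAut ↥(chevE6.group F)}, IsD hE (![1, -1, 1, -1, 1, 1] : Fin 6 → Fˣ) d2 →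
      Rl (d * gr hp6.inList symmE6) (d2 * gr hp6.inList symmE6) →
      ∃ (d' : MulAut ↥(chevE6.group F)) (ε : Fˣ), ε * ε = 1 ∧ IsD hE (![1, ε, 1, 1, 1, 1] : Fin 6 → Fˣ) d' ∧
        Rl (d * gr hp6.inList symmE6) (d' * gr hp6.inList symmE6) := by
    intro d2 hd2 r2
    obtain ⟨d3, hd3, r3⟩ := refl_step hd2 (1 : Fin 6) rfl rfl hn1
    refine ⟨d3, -1, by simp, isD_congr hd3 ?_, r2.trans r3⟩
    intro i
    fin_cases i <;> simp [E1, su_neg_one]
  rcases unit_cases h33 with h3 | h3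
  · refine ⟨d1, c 1, h11, ?_, r1⟩
    rw [h3] at hd1
    exact hd1
  · rw [h3] at hd1
    rcases unit_cases h11 with h1 | h1
    · rw [h1] at hd1
      obtain ⟨d2, hd2, r2⟩ := refl_step hd1 (3 : Fin 6) rfl rfl hn3
      have r12 := r1.trans r2
      have hcc2 := param hd2 (sq_of_Rl r12 hσ)
      obtain ⟨d3, hd3, r3⟩ := norm_diag hd2 (hcc2 (0 : Fin 6)) (hcc2 (2 : Fin 6))
      refine last (isD_congr hd3 ?_) (r12.trans r3)
      intro i
      fin_cases i <;> simp [E3, su_neg_one]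
    · rw [h1] at hd1
      exact last hd1 r1

/-- **The final normalisation.** -/
theorem fin_norm {c : Fin chevE6.rank → Fˣ} {d : MulAut ↥(chevE6.group F)} (hd : IsD hE c d)
    (hσ : (d * gr hp6.inList symmE6) * (d * gr hp6.inList symmE6) = 1) :
    ∃ (ζ d' : MulAut ↥(chevE6.group F)) (ε : Fˣ), ε * ε = 1 ∧
      IsD hE (fun i : Fin chevE6.rank => if (i : ℕ) = 1 then ε else 1) d' ∧
      d * gr hp6.inList symmE6 = ζ⁻¹ * (d' * gr hp6.inList symmE6) * ζ := by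
  obtain ⟨d', ε, h1, h2, ζ, h3⟩ := fin_norm' hd hσ
  refine ⟨ζ, d', ε, h1, isD_congr h2 ?_, h3⟩
  intro i
  fin_cases i <;> rfl

end Cfsg.Agent.H679.IF.E6Fin
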